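import Groth.Agent.Lib.LocConst.Pull
import Groth.Agent.Lib.EtSite.Sections

/-!
# Germs of constant sheaves

The germ at the base object identifies a stalk of a constant sheaf with its value; hence a sheaf is
constant with value `M` iff some `M → Γ(F)` induces bijections onto all geometric stalks.
-/

universe u

open CategoryTheory CategoryTheory.Limits AlgebraicGeometry Opposite
open GrothLib.EtSite

set_option backward.isDefEq.respectTransparency.types false

noncomputable section

namespace GrothLib.LocConst

theorem bijective_comp {A B C : AddCommGrpCat.{u + 1}} {f : A ⟶ B} {g : B ⟶ C}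
    (hf : Function.Bijective f) (hg : Function.Bijective g) : Function.Bijective (f ≫ g) :=
  hg.comp hf

theorem bijective_of_comp {A B C : AddCommGrpCat.{u + 1}} {f : A ⟶ B} {g : B ⟶ C}
    (hf : Function.Bijective f) (h : Function.Bijective (f ≫ g)) : Function.Bijective g :=
  (Function.Bijective.of_comp_iff g hf).1 h

variable {X : Scheme.{u}} {Ω : Type u} [Field Ω] [IsSepClosed Ω] (ξ : Spec (CommRingCat.of Ω) ⟶ X)

/-- The point of the base object over `ξ`. -/
def topFib : (Scheme.pointSmallEtale ξ).fiber.obj (EtCoh.top X) :=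
  fib ξ (U := EtCoh.top X) ξ (Category.comp_id ξ)

theorem fiber_map_from_top {U : X.Etale} (g : U ⟶ EtCoh.top X)
    (t : (Scheme.pointSmallEtale ξ).fiber.obj U) :
    (Scheme.pointSmallEtale ξ).fiber.map g t = topFib ξ := by
  refine Over.OverMorphism.ext ?_
  change t.left ≫ g.left = ξ
  have h : g.left = U.hom := (Category.comp_id _).symm.trans (MorphismProperty.Over.w g)
  rw [h]
  exact Over.w t

theorem bijective_germ_constPresheaf (M : AddCommGrpCat.{u + 1}) :
    Function.Bijective ((Scheme.pointSmallEtale ξ).toPresheafFiber (EtCoh.top X) (topFib ξ)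
      ((Functor.const (X.Etale)ᵒᵖ).obj M)) := by
  constructor
  · intro a b h
    obtain ⟨V, g, v, -, hg⟩ :=
      ((Scheme.pointSmallEtale ξ).toPresheafFiber_eq_iff' (EtCoh.top X) (topFib ξ) a b).1 h
    exact hg
  · intro p
    obtain ⟨U, t, z, rfl⟩ := (Scheme.pointSmallEtale ξ).toPresheafFiber_jointly_surjective p
    refine ⟨z, ?_⟩
    rw [← fiber_map_from_top ξ ((EtCore.topIsTerminal X).from U) t]
    exact ((Scheme.pointSmallEtale ξ).toPresheafFiber_w_apply
      ((EtCore.topIsTerminal X).from U) t ((Functor.const (X.Etale)ᵒᵖ).obj M) z).symm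

theorem constAdj_unit_app (M : AddCommGrpCat.{u + 1}) :
    (EtCore.constAdj X).unit.app M =
      (CategoryTheory.toSheafify X.smallEtaleTopology ((Functor.const (X.Etale)ᵒᵖ).obj M)).app
        (op (EtCoh.top X)) := by
  simp [EtCore.constAdj, constantSheafAdj, Adjunction.comp_unit_app]

/-- The stalk of a constant sheaf is its value. -/
theorem bijective_germ_const (M : AddCommGrpCat.{u + 1}) :
    Function.Bijective ((EtCore.constAdj X).unit.app M ≫
      germ ξ ((constantSheaf X.smallEtaleTopology AddCommGrpCat.{u + 1}).obj M) (topFib ξ)) := by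
  have e : (EtCore.constAdj X).unit.app M ≫
      germ ξ ((constantSheaf X.smallEtaleTopology AddCommGrpCat.{u + 1}).obj M) (topFib ξ) =
    (Scheme.pointSmallEtale ξ).toPresheafFiber (EtCoh.top X) (topFib ξ)
      ((Functor.const (X.Etale)ᵒᵖ).obj M) ≫
      (Scheme.pointSmallEtale ξ).presheafFiber.map
        (CategoryTheory.toSheafify X.smallEtaleTopology ((Functor.const (X.Etale)ᵒᵖ).obj M)) := by
    rw [constAdj_unit_app]
    exact ((Scheme.pointSmallEtale ξ).toPresheafFiber_naturality _ _ _).symm
  rw [e]
  exact bijective_comp (bijective_germ_constPresheaf ξ M)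
    ((Scheme.pointSmallEtale ξ).toPresheafFiber_map_bijective
      (CategoryTheory.toSheafify X.smallEtaleTopology ((Functor.const (X.Etale)ᵒᵖ).obj M)))

theorem germ_transpose {M : AddCommGrpCat.{u + 1}} {F : EtCoh.Ab X}
    (φ : (constantSheaf X.smallEtaleTopology AddCommGrpCat.{u + 1}).obj M ⟶ F) :
    ((EtCore.constAdj X).homEquiv M F φ) ≫ germ ξ F (topFib ξ) =
      ((EtCore.constAdj X).unit.app M ≫
        germ ξ ((constantSheaf X.smallEtaleTopology AddCommGrpCat.{u + 1}).obj M) (topFib ξ)) ≫
        (EtCoh.stalk ξ).map φ := by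
  rw [Adjunction.homEquiv_unit, Category.assoc, Category.assoc]
  exact congrArg (_ ≫ ·)
    ((Scheme.pointSmallEtale ξ).toPresheafFiber_naturality φ.hom (EtCoh.top X) (topFib ξ)).symm

/-- Constancy in terms of global sections and stalks. -/
theorem iso_const_iff (F : EtCoh.Ab X) (M : AddCommGrpCat.{u + 1}) :
    Nonempty (F ≅ (constantSheaf X.smallEtaleTopology AddCommGrpCat.{u + 1}).obj M) ↔
      ∃ a : M ⟶ F.obj.obj (op (EtCoh.top X)),
        ∀ (Ω : Type u) [Field Ω] [IsSepClosed Ω] (ξ : Spec (CommRingCat.of Ω) ⟶ X),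
          Function.Bijective (a ≫ germ ξ F (topFib ξ)) := by
  constructor
  · rintro ⟨e⟩
    refine ⟨(EtCore.constAdj X).homEquiv M F e.inv, fun Ω _ _ ξ => ?_⟩
    rw [germ_transpose]
    exact bijective_comp (bijective_germ_const ξ M) ((ConcreteCategory.isIso_iff_bijective _).1
      (inferInstanceAs (IsIso ((EtCoh.stalk ξ).map e.inv))))
  · rintro ⟨a, ha⟩
    let φ := ((EtCore.constAdj X).homEquiv M F).symm a
    have : IsIso φ := isIso_of_stalks φ fun Ω _ _ ξ => by
      have e := germ_transpose ξ φ
      rw [Equiv.apply_symm_apply] at e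
      have h := ha Ω ξ
      rw [e] at h
      exact bijective_of_comp (bijective_germ_const ξ M) h
    exact ⟨(asIso φ).symm⟩

end GrothLib.LocConst
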