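import Groth.Agent.Lib.LocConst.Chart
import Mathlib.Algebra.Homology.ShortComplex.ConcreteCategory

/-!
# Finite locally constant sheaves form a weak Serre subcategory

Kernels, cokernels and extensions of finite locally constant sheaves are finite locally constant.
-/

universe u

open CategoryTheory CategoryTheory.Limits AlgebraicGeometry Opposite
open GrothLib.EtSite

set_option backward.isDefEq.respectTransparency.types false

noncomputable section

namespace GrothLib.LocConst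

variable {X : Scheme.{u}} {Ω : Type u} [Field Ω] [IsSepClosed Ω]
  (ξ : Spec (CommRingCat.of Ω) ⟶ X)

theorem exists_refine₂ {U V : X.Etale} (t : (Scheme.pointSmallEtale ξ).fiber.obj U)
    (s : (Scheme.pointSmallEtale ξ).fiber.obj V) :
    ∃ (W : X.Etale) (w : (Scheme.pointSmallEtale ξ).fiber.obj W) (g : W ⟶ U) (h : W ⟶ V),
      (Scheme.pointSmallEtale ξ).fiber.map g w = t ∧
        (Scheme.pointSmallEtale ξ).fiber.map h w = s := by
  obtain ⟨⟨W, w⟩, ⟨g, hg⟩, ⟨h, hh⟩, -⟩ :=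
    IsCofilteredOrEmpty.cone_objs (C := (Scheme.pointSmallEtale ξ).fiber.Elements) ⟨U, t⟩ ⟨V, s⟩
  exact ⟨W, w, g, h, hg, hh⟩

/-- Finitely many equalities of germs hold on a common neighbourhood. -/
theorem exists_refine_eq {ι : Type*} [Finite ι] (F : EtCoh.Ab X) {U : X.Etale}
    (t : (Scheme.pointSmallEtale ξ).fiber.obj U) (s s' : ι → EtCoh.sect F U)
    (h : ∀ i, germ ξ F t (s i) = germ ξ F t (s' i)) :
    ∃ (V : X.Etale) (g : V ⟶ U) (v : (Scheme.pointSmallEtale ξ).fiber.obj V),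
      (Scheme.pointSmallEtale ξ).fiber.map g v = t ∧
        ∀ i, F.obj.map g.op (s i) = F.obj.map g.op (s' i) := by
  classical
  cases nonempty_fintype ι
  suffices ∀ S : Finset ι, ∃ (V : X.Etale) (g : V ⟶ U) (v : (Scheme.pointSmallEtale ξ).fiber.obj V),
      (Scheme.pointSmallEtale ξ).fiber.map g v = t ∧
        ∀ i ∈ S, F.obj.map g.op (s i) = F.obj.map g.op (s' i) by
    obtain ⟨V, g, v, hv, hV⟩ := this Finset.univ
    exact ⟨V, g, v, hv, fun i => hV i (Finset.mem_univ i)⟩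
  intro S
  induction S using Finset.induction_on with
  | empty => exact ⟨U, 𝟙 U, t, by simp, fun i hi => absurd hi (Finset.notMem_empty i)⟩
  | insert j S hj ih =>
    obtain ⟨V, g, v, hv, hV⟩ := ih
    have hj' : germ ξ F v (F.obj.map g.op (s j)) = germ ξ F v (F.obj.map g.op (s' j)) := by
      rw [germ_map, germ_map, hv, h j]
    obtain ⟨W, k, w, hw, hk⟩ := (germ_eq_iff ξ F v _ _).1 hj'
    refine ⟨W, k ≫ g, w, by rw [Functor.map_comp, ConcreteCategory.comp_apply, hw, hv], fun i hi => ?_⟩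
    rw [op_comp, Functor.map_comp, ConcreteCategory.comp_apply, ConcreteCategory.comp_apply]
    rcases Finset.mem_insert.1 hi with rfl | hi
    · exact hk
    · exact congrArg _ (hV i hi)

/-- Finitely many elements of a stalk are germs on a common neighbourhood. -/
theorem exists_refine_sect {ι : Type*} [Finite ι] (F : EtCoh.Ab X) {U : X.Etale}
    (t : (Scheme.pointSmallEtale ξ).fiber.obj U) (p : ι → (EtCoh.stalk ξ).obj F) :
    ∃ (V : X.Etale) (g : V ⟶ U) (v : (Scheme.pointSmallEtale ξ).fiber.obj V)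
      (s : ι → EtCoh.sect F V),
      (Scheme.pointSmallEtale ξ).fiber.map g v = t ∧ ∀ i, germ ξ F v (s i) = p i := by
  classical
  cases nonempty_fintype ι
  suffices ∀ S : Finset ι, ∃ (V : X.Etale) (g : V ⟶ U) (v : (Scheme.pointSmallEtale ξ).fiber.obj V)
      (s : ι → EtCoh.sect F V),
      (Scheme.pointSmallEtale ξ).fiber.map g v = t ∧ ∀ i ∈ S, germ ξ F v (s i) = p i by
    obtain ⟨V, g, v, s, hv, hV⟩ := this Finset.univ
    exact ⟨V, g, v, s, hv, fun i => hV i (Finset.mem_univ i)⟩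
  intro S
  induction S using Finset.induction_on with
  | empty => exact ⟨U, 𝟙 U, t, 0, by simp, fun i hi => absurd hi (Finset.notMem_empty i)⟩
  | insert j S hj ih =>
    obtain ⟨V, g, v, s, hv, hV⟩ := ih
    obtain ⟨V', v', z, hz⟩ := exists_germ ξ F (p j)
    obtain ⟨W, w, k, l, hk, hl⟩ := exists_refine₂ ξ v v'
    refine ⟨W, k ≫ g, w, fun i => if i = j then F.obj.map l.op z else F.obj.map k.op (s i),
      by rw [Functor.map_comp, ConcreteCategory.comp_apply, hk, hv], fun i hi => ?_⟩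
    by_cases hij : i = j
    · subst hij
      dsimp only
      rw [if_pos rfl, germ_map, hl, hz]
    · dsimp only
      rw [if_neg hij, germ_map, hk, hV i ((Finset.mem_insert.1 hi).resolve_left hij)]

/-- A finite locally constant sheaf has charts at every geometric point. -/
theorem exists_chart {F : EtCoh.Ab X} (h : EtCoh.IsFiniteLocallyConstant F) :
    ∃ (U : X.Etale) (_ : (Scheme.pointSmallEtale ξ).fiber.obj U) (M : Type) (_ : AddCommGroup M)
      (_ : Finite M) (a : M →+ EtCoh.sect F U), IsChart F U a := by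
  obtain ⟨U, u, hu, M, i, hM, a, ha⟩ := (flc_iff_charts F).1 h (ξ.base default)
  obtain ⟨t, -⟩ := exists_fib ξ u hu
  exact ⟨U, t, M, i, hM, a, ha⟩

/-- Charts at all geometric points give finite local constancy. -/
theorem flc_of_charts {F : EtCoh.Ab X}
    (h : ∀ (Ω : Type u) [Field Ω] [IsSepClosed Ω] (ξ : Spec (CommRingCat.of Ω) ⟶ X),
      ∃ (U : X.Etale) (_ : (Scheme.pointSmallEtale ξ).fiber.obj U) (M : Type) (_ : AddCommGroup M)
        (_ : Finite M) (a : M →+ EtCoh.sect F U), IsChart F U a) :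
    EtCoh.IsFiniteLocallyConstant F := by
  refine (flc_iff_charts F).2 fun x => ?_
  obtain ⟨U, t, M, i, hM, a, ha⟩ := h _ (gpt x)
  refine ⟨U, t.left.base (default : Spec (CommRingCat.of (SeparableClosure (X.residueField x)))), ?_,
    M, i, hM, a, ha⟩
  exact (congrArg (fun k : Spec (CommRingCat.of (SeparableClosure (X.residueField x))) ⟶ X =>
    k.base (default : Spec (CommRingCat.of (SeparableClosure (X.residueField x))))) (Over.w t)).trans
      (gpt_default x)

/-- Two charts on a common neighbourhood. -/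
theorem exists_chart₂ {F G : EtCoh.Ab X} (hF : EtCoh.IsFiniteLocallyConstant F)
    (hG : EtCoh.IsFiniteLocallyConstant G) :
    ∃ (U : X.Etale) (_ : (Scheme.pointSmallEtale ξ).fiber.obj U)
      (M : Type) (_ : AddCommGroup M) (_ : Finite M) (N : Type) (_ : AddCommGroup N) (_ : Finite N)
      (a : M →+ EtCoh.sect F U) (b : N →+ EtCoh.sect G U), IsChart F U a ∧ IsChart G U b := by
  obtain ⟨U, t, M, _, hM, a, ha⟩ := exists_chart ξ hF
  obtain ⟨V, s, N, _, hN, b, hb⟩ := exists_chart ξ hG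
  obtain ⟨W, w, g, h, -, -⟩ := exists_refine₂ ξ t s
  exact ⟨W, w, M, inferInstance, hM, N, inferInstance, hN, _, _, ha.map g, hb.map h⟩

/-- A map is locally given by a hom between the value groups. -/
theorem exists_chart_hom {F G : EtCoh.Ab X} (φ : F ⟶ G) (hF : EtCoh.IsFiniteLocallyConstant F)
    (hG : EtCoh.IsFiniteLocallyConstant G) :
    ∃ (U : X.Etale) (_ : (Scheme.pointSmallEtale ξ).fiber.obj U)
      (M : Type) (_ : AddCommGroup M) (_ : Finite M) (N : Type) (_ : AddCommGroup N) (_ : Finite N)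
      (a : M →+ EtCoh.sect F U) (b : N →+ EtCoh.sect G U) (f : M →+ N),
      IsChart F U a ∧ IsChart G U b ∧ ∀ m, φ.hom.app (op U) (a m) = b (f m) := by
  obtain ⟨U, t, M, _, hM, N, _, hN, a, b, ha, hb⟩ := exists_chart₂ ξ hF hG
  let eb : N ≃+ (EtCoh.stalk ξ).obj G := AddEquiv.ofBijective ((germ ξ G t).hom.comp b) (hb Ω ξ t)
  let f : M →+ N := eb.symm.toAddMonoidHom.comp
    ((((EtCoh.stalk ξ).map φ).hom.comp (germ ξ F t).hom).comp a)
  have hf : ∀ m, germ ξ G t (φ.hom.app (op U) (a m)) = germ ξ G t (b (f m)) := fun m =>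
    (stalk_map_germ ξ φ t (a m)).symm.trans (eb.apply_symm_apply _).symm
  obtain ⟨V, g, v, -, hV⟩ := exists_refine_eq ξ G t _ _ hf
  exact ⟨V, v, M, inferInstance, hM, N, inferInstance, hN, _, _, f, ha.map g, hb.map g,
    fun m => (NatTrans.naturality_apply φ.hom g.op (a m)).trans (hV m)⟩

/-- Sections are left exact. -/
theorem exact_sect (S : ShortComplex (EtCoh.Ab X)) (hS : S.Exact) [Mono S.f] (U : X.Etale) :
    Function.Injective (S.f.hom.app (op U)) ∧
      ∀ y : EtCoh.sect S.X₂ U, S.g.hom.app (op U) y = 0 →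
        ∃ x : EtCoh.sect S.X₁ U, S.f.hom.app (op U) x = y := by
  let E : EtCoh.Ab X ⥤ AddCommGrpCat.{u + 1} :=
    sheafToPresheaf _ _ ⋙ (evaluation _ _).obj (op U)
  haveI : PreservesFiniteLimits E := inferInstance
  haveI : E.PreservesZeroMorphisms := ⟨fun _ _ => rfl⟩
  obtain ⟨h1, h2⟩ := (S.map E).exact_and_mono_f_iff_f_is_kernel.2
    ⟨KernelFork.mapIsLimit _ (S.exact_and_mono_f_iff_f_is_kernel.1 ⟨hS, inferInstance⟩).some E⟩
  exact ⟨(AddCommGrpCat.mono_iff_injective _).1 h2, fun y hy => (ShortComplex.ab_exact_iff _).1 h1 y hy⟩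

theorem stalk_exact (S : ShortComplex (EtCoh.Ab X)) (hS : S.Exact) (p : (EtCoh.stalk ξ).obj S.X₂)
    (hp : (EtCoh.stalk ξ).map S.g p = 0) :
    ∃ q : (EtCoh.stalk ξ).obj S.X₁, (EtCoh.stalk ξ).map S.f q = p :=
  (ShortComplex.ab_exact_iff _).1 (hS.map (EtCoh.stalk ξ)) p hp

theorem stalk_mono {F G : EtCoh.Ab X} (i : F ⟶ G) [Mono i] :
    Function.Injective ((EtCoh.stalk ξ).map i) :=
  (AddCommGrpCat.mono_iff_injective _).1 ((EtCoh.stalk ξ).map_mono i)

theorem stalk_epi {F G : EtCoh.Ab X} (g : F ⟶ G) [Epi g] :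
    Function.Surjective ((EtCoh.stalk ξ).map g) :=
  (AddCommGrpCat.epi_iff_surjective _).1 ((EtCoh.stalk ξ).map_epi g)

/-- The first term of a left exact sequence of finite locally constant sheaves is such. -/
theorem flc_left (S : ShortComplex (EtCoh.Ab X)) (hS : S.Exact) [Mono S.f]
    (h2 : EtCoh.IsFiniteLocallyConstant S.X₂) (h3 : EtCoh.IsFiniteLocallyConstant S.X₃) :
    EtCoh.IsFiniteLocallyConstant S.X₁ := flc_of_charts fun Ω _ _ ξ => by
  obtain ⟨U, t, M, _, hM, N, _, hN, a, b, f, ha, hb, hf⟩ := exists_chart_hom ξ S.g h2 h3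
  obtain ⟨hinj, hex⟩ := exact_sect S hS U
  choose l hl using fun m : f.ker => hex (a m) (by rw [hf, m.2, map_zero])
  let a' : f.ker →+ EtCoh.sect S.X₁ U := AddMonoidHom.mk' l fun x y =>
    hinj (by rw [map_add, hl, hl, hl, AddSubgroup.coe_add, map_add])
  refine ⟨U, t, f.ker, inferInstance, inferInstance, a', fun Ω' _ _ η s => ?_⟩
  have key : ∀ m : f.ker, (EtCoh.stalk η).map S.f (germ η S.X₁ s (a' m)) = germ η S.X₂ s (a m) :=
    fun m => (stalk_map_germ η S.f s _).trans (congrArg _ (hl m))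
  constructor
  · intro x y hxy
    exact Subtype.ext ((ha Ω' η s).1 ((key x).symm.trans ((congrArg _ hxy).trans (key y))))
  · intro p
    obtain ⟨m, hm⟩ := (ha Ω' η s).2 ((EtCoh.stalk η).map S.f p)
    dsimp only at hm
    have hm0 : f m = 0 := (hb Ω' η s).1 (by
      simp only [map_zero]
      rw [← hf m, ← stalk_map_germ, hm, ← ConcreteCategory.comp_apply, ← Functor.map_comp, S.zero,
        Functor.map_zero]
      rfl)
    exact ⟨⟨m, hm0⟩, stalk_mono η S.f ((key _).trans hm)⟩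

/-- The last term of a right exact sequence of finite locally constant sheaves is such. -/
theorem flc_right (S : ShortComplex (EtCoh.Ab X)) (hS : S.Exact) [Epi S.g]
    (h1 : EtCoh.IsFiniteLocallyConstant S.X₁) (h2 : EtCoh.IsFiniteLocallyConstant S.X₂) :
    EtCoh.IsFiniteLocallyConstant S.X₃ := flc_of_charts fun Ω _ _ ξ => by
  obtain ⟨U, t, M, _, hM, N, _, hN, a, b, f, ha, hb, hf⟩ := exists_chart_hom ξ S.f h1 h2
  let b' : N ⧸ f.range →+ EtCoh.sect S.X₃ U := QuotientAddGroup.lift f.range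
    ((S.g.hom.app (op U)).hom.comp b) (by
      rintro _ ⟨m, rfl⟩
      change S.g.hom.app (op U) (b (f m)) = 0
      rw [← hf m]
      exact congrArg (fun k => k.hom.app (op U) (a m)) S.zero)
  refine ⟨U, t, N ⧸ f.range, inferInstance, inferInstance, b', fun Ω' _ _ η s => ?_⟩
  have key : ∀ n : N, germ η S.X₃ s (b' n) = (EtCoh.stalk η).map S.g (germ η S.X₂ s (b n)) :=
    fun n => (stalk_map_germ η S.g s _).symm
  constructor
  · refine (injective_iff_map_eq_zero ((germ η S.X₃ s).hom.comp b')).2 fun q hq => ?_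
    obtain ⟨n, rfl⟩ := QuotientAddGroup.mk_surjective q
    obtain ⟨q', hq'⟩ := stalk_exact η S hS _ ((key n).symm.trans hq)
    obtain ⟨m, hm⟩ := (ha Ω' η s).2 q'
    dsimp only at hm
    refine (QuotientAddGroup.eq_zero_iff n).2 ⟨m, (hb Ω' η s).1 ?_⟩
    change germ η S.X₂ s (b (f m)) = germ η S.X₂ s (b n)
    rw [← hf m, ← stalk_map_germ, hm, hq']
  · intro p
    obtain ⟨q, rfl⟩ := stalk_epi η S.g p
    obtain ⟨n, rfl⟩ := (hb Ω' η s).2 q
    exact ⟨n, key n⟩

/-- Extensions of finite locally constant sheaves are finite locally constant. -/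
theorem flc_middle (S : ShortComplex (EtCoh.Ab X)) (hS : S.ShortExact)
    (h1 : EtCoh.IsFiniteLocallyConstant S.X₁) (h3 : EtCoh.IsFiniteLocallyConstant S.X₃) :
    EtCoh.IsFiniteLocallyConstant S.X₂ := flc_of_charts fun Ω _ _ ξ => by
  have := hS.mono_f
  have := hS.epi_g
  obtain ⟨U, t, M, _, hM, N, _, hN, a, b, ha, hb⟩ := exists_chart₂ ξ h1 h3
  -- lifts of the values of the quotient
  choose p hp using fun n : N => stalk_epi ξ S.g (germ ξ S.X₃ t (b n))
  obtain ⟨U₁, g₁, t₁, e₁, ht₁, he₁⟩ := exists_refine_sect ξ S.X₂ t p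
  obtain ⟨U₂, g₂, t₂, ht₂, hU₂⟩ := exists_refine_eq ξ S.X₃ t₁ (fun n => S.g.hom.app (op U₁) (e₁ n))
    (fun n => S.X₃.obj.map g₁.op (b n)) fun n => by
      rw [← stalk_map_germ, he₁, hp, germ_map, ht₁]
  let a₂ : M →+ EtCoh.sect S.X₁ U₂ :=
    ((S.X₁.obj.map g₂.op).hom.comp (S.X₁.obj.map g₁.op).hom).comp a
  let b₂ : N →+ EtCoh.sect S.X₃ U₂ :=
    ((S.X₃.obj.map g₂.op).hom.comp (S.X₃.obj.map g₁.op).hom).comp b
  have ha₂ : IsChart S.X₁ U₂ a₂ := (ha.map g₁).map g₂
  have hb₂ : IsChart S.X₃ U₂ b₂ := (hb.map g₁).map g₂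
  let e₂ : N → EtCoh.sect S.X₂ U₂ := fun n => S.X₂.obj.map g₂.op (e₁ n)
  have he₂ : ∀ n, S.g.hom.app (op U₂) (e₂ n) = b₂ n := fun n =>
    (NatTrans.naturality_apply S.g.hom g₂.op (e₁ n)).trans (hU₂ n)
  obtain ⟨-, hex⟩ := exact_sect S hS.exact U₂
  choose σ hσ using fun q : N × N => hex (e₂ q.1 + e₂ q.2 - e₂ (q.1 + q.2)) (by
    rw [map_sub, map_add, he₂, he₂, he₂, map_add, sub_self])
  choose c hc using fun q : N × N => (ha₂ Ω ξ t₂).2 (germ ξ S.X₁ t₂ (σ q))
  obtain ⟨U₃, g₃, t₃, -, hU₃⟩ := exists_refine_eq ξ S.X₁ t₂ σ (fun q => a₂ (c q))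
    fun q => (hc q).symm
  let e : N → EtCoh.sect S.X₂ U₃ := fun n => S.X₂.obj.map g₃.op (e₂ n)
  let ia : M →+ EtCoh.sect S.X₂ U₃ :=
    (S.f.hom.app (op U₃)).hom.comp ((S.X₁.obj.map g₃.op).hom.comp a₂)
  let b₃ : N →+ EtCoh.sect S.X₃ U₃ := (S.X₃.obj.map g₃.op).hom.comp b₂
  have ha₃ : IsChart S.X₁ U₃ ((S.X₁.obj.map g₃.op).hom.comp a₂) := ha₂.map g₃
  have hb₃ : IsChart S.X₃ U₃ b₃ := hb₂.map g₃
  have he : ∀ n, S.g.hom.app (op U₃) (e n) = b₃ n := fun n =>
    (NatTrans.naturality_apply S.g.hom g₃.op (e₂ n)).trans (congrArg _ (he₂ n))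
  have hadd : ∀ m n, e m + e n = ia (c (m, n)) + e (m + n) := fun m n => by
    have h1 : S.X₂.obj.map g₃.op (S.f.hom.app (op U₂) (σ (m, n))) = ia (c (m, n)) :=
      (NatTrans.naturality_apply S.f.hom g₃.op _).symm.trans (congrArg _ (hU₃ (m, n)))
    rw [hσ, map_sub, map_add] at h1
    exact eq_add_of_sub_eq h1
  have he0 : e 0 = ia (c (0, 0)) := by
    have h := hadd 0 0
    rw [add_zero] at h
    exact add_right_cancel h
  let E : AddSubgroup (EtCoh.sect S.X₂ U₃) :=
    { carrier := Set.range fun q : M × N => ia q.1 + e q.2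
      zero_mem' := ⟨(-c (0, 0), 0), by simp only [map_neg, he0, neg_add_cancel]⟩
      add_mem' := by
        rintro _ _ ⟨⟨m, n⟩, rfl⟩ ⟨⟨m', n'⟩, rfl⟩
        refine ⟨(m + m' + c (n, n'), n + n'), ?_⟩
        simp only [map_add]
        rw [add_add_add_comm (ia m) (e n), hadd n n']
        abel
      neg_mem' := by
        rintro _ ⟨⟨m, n⟩, rfl⟩
        refine ⟨(-m - c (n, -n) - c (0, 0), -n), ?_⟩
        refine eq_neg_of_add_eq_zero_left ?_
        have h := hadd n (-n)
        rw [add_neg_cancel, he0] at h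
        simp only [map_sub, map_neg]
        rw [show -ia m - ia (c (n, -n)) - ia (c (0, 0)) + e (-n) + (ia m + e n) =
          (e n + e (-n)) - (ia (c (n, -n)) + ia (c (0, 0))) by abel, h, sub_self] }
  haveI : Finite E := Set.Finite.to_subtype (Set.finite_range fun q : M × N => ia q.1 + e q.2)
  have hE : IsChart S.X₂ U₃ E.subtype := fun Ω' _ _ η s => by
    have gg : ∀ (m : M) (n : N), (EtCoh.stalk η).map S.g (germ η S.X₂ s (ia m + e n)) =
        germ η S.X₃ s (b₃ n) := fun m n => by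
      rw [stalk_map_germ, map_add, he]
      refine congrArg _ ?_
      rw [add_eq_right]
      exact congrArg (fun k : S.X₁ ⟶ S.X₃ => k.hom.app (op U₃) (S.X₁.obj.map g₃.op (a₂ m))) S.zero
    have gf : ∀ m : M, germ η S.X₂ s (ia m) =
        (EtCoh.stalk η).map S.f (germ η S.X₁ s (S.X₁.obj.map g₃.op (a₂ m))) := fun m =>
      (stalk_map_germ η S.f s _).symm
    constructor
    · refine (injective_iff_map_eq_zero ((germ η S.X₂ s).hom.comp E.subtype)).2 ?_
      rintro ⟨_, ⟨⟨m, n⟩, rfl⟩⟩ h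
      have hn : n = 0 := (hb₃ Ω' η s).1 (by
        change germ η S.X₃ s (b₃ n) = germ η S.X₃ s (b₃ 0)
        rw [← gg m n, map_zero, map_zero]
        exact (congrArg _ h).trans (map_zero _))
      subst hn
      refine Subtype.ext ?_
      change ia m + e 0 = 0
      change germ η S.X₂ s (ia m + e 0) = 0 at h
      rw [he0, ← map_add, gf] at h
      have hm : m + c (0, 0) = 0 := (ha₃ Ω' η s).1 (by
        change germ η S.X₁ s (S.X₁.obj.map g₃.op (a₂ (m + c (0, 0)))) = _
        refine stalk_mono η S.f (h.trans ?_)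
        simp)
      rw [he0, ← map_add, hm, map_zero]
    · intro q
      obtain ⟨n, hn⟩ := (hb₃ Ω' η s).2 ((EtCoh.stalk η).map S.g q)
      dsimp only at hn
      obtain ⟨q', hq'⟩ := stalk_exact η S hS.exact (q - germ η S.X₂ s (e n)) (by
        rw [map_sub, stalk_map_germ, he, hn, sub_self])
      obtain ⟨m, hm⟩ := (ha₃ Ω' η s).2 q'
      refine ⟨⟨ia m + e n, ⟨(m, n), rfl⟩⟩, ?_⟩
      change germ η S.X₂ s (ia m + e n) = q
      have : germ η S.X₂ s (ia m) = q - germ η S.X₂ s (e n) :=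
        (gf m).trans ((congrArg _ hm).trans hq')
      rw [map_add, this, sub_add_cancel]
  haveI : Small.{0} E := Countable.toSmall _
  exact ⟨U₃, t₃, Shrink.{0} E, inferInstance, inferInstance, _,
    hE.comp_equiv (Shrink.addEquiv (α := E))⟩

end GrothLib.LocConst
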