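import Groth.Agent.Lib.LocConst.Serre
import Mathlib.AlgebraicGeometry.Morphisms.QuasiFinite
import Mathlib.RingTheory.Unramified.LocalStructure

/-!
# Subsheaves of finite locally constant sheaves near a generic point

A subsheaf of a finite locally constant sheaf is finite locally constant on a neighbourhood of a
point which lies in every nonempty open.
-/

universe u

open CategoryTheory CategoryTheory.Limits AlgebraicGeometry Opposite
open GrothLib.EtSite

set_option backward.isDefEq.respectTransparency.types false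

noncomputable section

namespace GrothLib.LocConst

variable {X : Scheme.{u}}

/-- A chart on `W` makes the sheaf finite locally constant on the open image of `W`. -/
theorem flc_pull_image {F : EtCoh.Ab X} (W : X.Etale) (O : X.Opens)
    (hO : (O : Set X) = Set.range W.hom.base) {M : Type} [AddCommGroup M] [Finite M]
    (a : M →+ EtCoh.sect F W) (ha : IsChart F W a) :
    EtCoh.IsFiniteLocallyConstant ((EtCoh.pull O.ι).obj F) := by
  haveI : Etale W.hom := W.prop
  let q : W.left ⟶ (O : Scheme.{u}) := IsOpenImmersion.lift O.ι W.hom (by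
    rw [Scheme.Opens.range_ι, hO])
  have hq : q ≫ O.ι = W.hom := IsOpenImmersion.lift_fac _ _ _
  haveI : Etale (q ≫ O.ι) := hq.symm ▸ inferInstance
  haveI : Etale q := Etale.of_comp q O.ι
  refine ⟨PUnit.{u + 1}, fun _ => Scheme.Etale.mk q, fun y => ⟨PUnit.unit, ?_⟩,
    fun _ => ⟨M, inferInstance, inferInstance, ?_⟩⟩
  · obtain ⟨w, hw⟩ : O.ι y ∈ Set.range W.hom.base := hO ▸ y.2
    refine ⟨w, O.ι.isOpenEmbedding.injective ?_⟩
    exact (congrArg (fun k : W.left ⟶ X => k w) hq).trans hw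
  · rw [restr_iso_const_iff]
    obtain ⟨e⟩ := (restr_iso_const_iff F W _).1
      ((restr_iso_const_iff_chart F W (AddCommGrpCat.of (ULift.{u + 1} M))).2
        ⟨_, ha.comp_equiv AddEquiv.ulift⟩)
    exact ⟨((EtCore.pullCongr hq.symm ≪≫ EtCore.pullComp q O.ι).app F).symm ≪≫ e⟩

/-- A geometric point of the base lifts to a neighbourhood through a prescribed point. -/
theorem exists_fib_lift {Ω : Type u} [Field Ω] [IsSepClosed Ω]
    (ξ : Spec (CommRingCat.of Ω) ⟶ X) {W V : X.Etale} (g : V ⟶ W)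
    (t : (Scheme.pointSmallEtale ξ).fiber.obj W) (v : V.left)
    (hv : g.left.base v = t.left.base (default : Spec (CommRingCat.of Ω))) :
    ∃ s : (Scheme.pointSmallEtale ξ).fiber.obj V, (Scheme.pointSmallEtale ξ).fiber.map g s = t := by
  haveI : Etale W.hom := W.prop
  haveI : Etale V.hom := V.prop
  haveI : Etale (g.left ≫ W.hom) := (MorphismProperty.Over.w g).symm ▸ (inferInstance : Etale V.hom)
  let gl : V.left ⟶ W.left := g.left
  haveI : Etale (gl ≫ W.hom) := (inferInstance : Etale (g.left ≫ W.hom))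
  haveI : Etale gl := Etale.of_comp gl W.hom
  let tl : Spec (CommRingCat.of Ω) ⟶ W.left := t.left
  obtain ⟨l, -⟩ := exists_fib tl (U := Scheme.Etale.mk gl) v hv
  have hl : l.left ≫ g.left = t.left := Over.w l
  refine ⟨fib ξ (U := V) l.left ?_, Over.OverMorphism.ext hl⟩
  refine Eq.trans ?_ ((congrArg (fun k : Spec (CommRingCat.of Ω) ⟶ W.left => k ≫ W.hom) hl).trans (Over.w t))
  exact (congrArg (l.left ≫ ·) (MorphismProperty.Over.w g).symm).trans (Category.assoc _ _ _).symm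

theorem locallyQuasiFinite_of_etale {S T : Scheme.{u}} (f : S ⟶ T) [Etale f] :
    LocallyQuasiFinite f := by
  rw [HasRingHomProperty.iff_appLE (P := @LocallyQuasiFinite)]
  intro U V e
  have h1 := HasRingHomProperty.appLE @LocallyOfFiniteType f inferInstance U V e
  have h2 := HasRingHomProperty.appLE @FormallyUnramified f inferInstance U V e
  algebraize [(f.appLE U V e).hom]
  exact RingHom.quasiFinite_algebraMap.2 inferInstance

theorem exists_open_fibre_singleton (W : X.Etale) (t : X) (w : W.left) (hw : W.hom.base w = t) :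
    ∃ (V : X.Etale) (g : V ⟶ W) (v : V.left), g.left.base v = w ∧
      ∀ v' : V.left, V.hom.base v' = t → v' = v := by
  haveI : Etale W.hom := W.prop
  obtain ⟨A, hA, htA, -⟩ := TopologicalSpace.Opens.isBasis_iff_nbhd.1 X.isBasis_affineOpens
    (show t ∈ (⊤ : X.Opens) from trivial)
  obtain ⟨B, hB, hwB, hBA⟩ := TopologicalSpace.Opens.isBasis_iff_nbhd.1 W.left.isBasis_affineOpens
    (show w ∈ W.hom ⁻¹ᵁ A from show W.hom.base w ∈ A from hw.symm ▸ htA)
  haveI : IsAffine (A : Scheme.{u}) := hA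
  haveI : IsAffine (B : Scheme.{u}) := hB
  let h : (B : Scheme.{u}) ⟶ (A : Scheme.{u}) := W.hom.resLE A B hBA
  haveI : Etale (h ≫ Scheme.Opens.ι A) := by
    rw [Scheme.Hom.resLE_comp_ι]
    infer_instance
  haveI : Etale h := Etale.of_comp h (Scheme.Opens.ι A)
  haveI := locallyQuasiFinite_of_etale h
  have hdisc : _root_.IsDiscrete (h ⁻¹' {⟨t, htA⟩}) := h.isDiscrete_preimage_singleton _
  have hh : ∀ b : ↥(B : Scheme.{u}), (h b).1 = W.hom.base b.1 := fun b =>
    congrArg (fun k : (B : Scheme.{u}) ⟶ X => k b) (W.hom.resLE_comp_ι hBA)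
  have hwh : (⟨w, hwB⟩ : ↥(B : Scheme.{u})) ∈ h ⁻¹' {⟨t, htA⟩} :=
    Subtype.ext ((hh ⟨w, hwB⟩).trans hw)
  obtain ⟨N, hN, hNw⟩ : ∃ N : Set ↥(B : Scheme.{u}), IsOpen N ∧
      N ∩ h ⁻¹' {⟨t, htA⟩} = {⟨w, hwB⟩} := by
    haveI := hdisc.to_subtype
    obtain ⟨N, hN, hN'⟩ := isOpen_induced_iff.1
      (isOpen_discrete ({⟨⟨w, hwB⟩, hwh⟩} : Set (h ⁻¹' {⟨t, htA⟩})))
    refine ⟨N, hN, ?_⟩
    ext b
    constructor
    · rintro ⟨hb, hb'⟩
      have : (⟨b, hb'⟩ : h ⁻¹' {⟨t, htA⟩}) ∈ ({⟨⟨w, hwB⟩, hwh⟩} : Set _) := hN' ▸ hb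
      exact congrArg Subtype.val this
    · rintro rfl
      exact ⟨(hN'.symm ▸ rfl : (⟨⟨w, hwB⟩, hwh⟩ : h ⁻¹' {⟨t, htA⟩}) ∈ Subtype.val ⁻¹' N), hwh⟩
  let N' : W.left.Opens := Scheme.Opens.ι B ''ᵁ ⟨N, hN⟩
  haveI : Etale (N'.ι ≫ W.hom) := inferInstance
  have hwN : w ∈ N' := ⟨⟨w, hwB⟩, (hNw.ge rfl).1, rfl⟩
  refine ⟨Scheme.Etale.mk (N'.ι ≫ W.hom), MorphismProperty.Over.homMk N'.ι rfl, ⟨w, hwN⟩, rfl, ?_⟩
  rintro ⟨_, ⟨b, hb, rfl⟩⟩ hv
  have : b = ⟨w, hwB⟩ := hNw.le ⟨hb, Subtype.ext ((hh b).trans hv)⟩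
  exact Subtype.ext (congrArg (fun k => Scheme.Opens.ι B k) this)

/-- Subsheaves of finite locally constant sheaves are finite locally constant near a point lying
in every nonempty open. -/
theorem exists_flc_nhd_sub {F G : EtCoh.Ab X} (i : G ⟶ F) [Mono i]
    (hF : EtCoh.IsFiniteLocallyConstant F) (t : X)
    (hgen : ∀ O : Set X, IsOpen O → O.Nonempty → t ∈ O) :
    ∃ O : X.Opens, t ∈ O ∧ EtCoh.IsFiniteLocallyConstant ((EtCoh.pull O.ι).obj G) := by
  obtain ⟨U, u, hu, M, _, hM, a, ha⟩ := (flc_iff_charts F).1 hF t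
  obtain ⟨W, g, w, hgw, hsing⟩ := exists_open_fibre_singleton U t u hu
  have haW := ha.map g
  have hwt : W.hom.base w = t := by
    rw [← MorphismProperty.Over.w g, Scheme.Hom.comp_apply, hgw, hu]
  let ξ := gpt t
  obtain ⟨tw, htw⟩ := exists_fib ξ w (hwt.trans (gpt_default t).symm)
  let aW : M →+ EtCoh.sect F W := (F.obj.map g.op).hom.comp a
  let M' : AddSubgroup M := AddSubgroup.comap ((germ ξ F tw).hom.comp aW)
    ((EtCoh.stalk ξ).map i).hom.range
  choose p hp using fun m : M' => m.2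
  obtain ⟨W₁, g₁, t₁, z, ht₁, hz⟩ := exists_refine_sect ξ G tw p
  obtain ⟨W₂, g₂, t₂, ht₂, hW₂⟩ := exists_refine_eq ξ F t₁
    (fun m : M' => i.hom.app (op W₁) (z m)) (fun m => F.obj.map g₁.op (aW m)) fun m => by
      rw [← stalk_map_germ, hz, hp, germ_map, ht₁]
      rfl
  let a₂ : M →+ EtCoh.sect F W₂ :=
    ((F.obj.map g₂.op).hom.comp (F.obj.map g₁.op).hom).comp aW
  have ha₂ : IsChart F W₂ a₂ := (haW.map g₁).map g₂
  let z₂ : M' → EtCoh.sect G W₂ := fun m => G.obj.map g₂.op (z m)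
  have hz₂ : ∀ m, i.hom.app (op W₂) (z₂ m) = a₂ m := fun m =>
    (NatTrans.naturality_apply i.hom g₂.op (z m)).trans (hW₂ m)
  have hinj : Function.Injective (i.hom.app (op W₂)) :=
    injective_app_of_stalks i (fun Ω _ _ η => stalk_mono η i) W₂
  let b : M' →+ EtCoh.sect G W₂ := AddMonoidHom.mk' z₂ fun x y =>
    hinj (by rw [map_add, hz₂, hz₂, hz₂, AddSubgroup.coe_add, map_add])
  have key : ∀ (Ω : Type u) [Field Ω] [IsSepClosed Ω] (η : Spec (CommRingCat.of Ω) ⟶ X)
      (s : (Scheme.pointSmallEtale η).fiber.obj W₂) (m : M'),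
      (EtCoh.stalk η).map i (germ η G s (b m)) = germ η F s (a₂ m) := fun Ω _ _ η s m =>
    (stalk_map_germ η i s _).trans (congrArg _ (hz₂ m))
  have hb : IsChart G W₂ b := fun Ω' _ _ η s => by
    constructor
    · intro x y hxy
      exact Subtype.ext ((ha₂ Ω' η s).1 ((key Ω' η s x).symm.trans
        ((congrArg _ hxy).trans (key Ω' η s y))))
    · intro q
      obtain ⟨m, hm⟩ := (ha₂ Ω' η s).2 ((EtCoh.stalk η).map i q)
      obtain ⟨V, k, v, -, y, hy⟩ := exists_nhd_image η i s (a₂ m) q hm.symm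
      haveI : Etale V.hom := V.prop
      obtain ⟨v', hv'⟩ := hgen _ V.hom.isOpenMap.isOpen_range (Set.range_nonempty_iff_nonempty.2 ⟨v⟩)
      let r : V ⟶ W := k ≫ g₂ ≫ g₁
      have hr : r.left.base v' = tw.left.base
          (default : Spec (CommRingCat.of (SeparableClosure (X.residueField t)))) := by
        refine (hsing _ ?_).trans htw.symm
        exact (congrArg (fun l : V.left ⟶ X => l v') (MorphismProperty.Over.w r)).trans hv'
      obtain ⟨tv, htv⟩ := exists_fib_lift ξ r tw v' hr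
      have hmem : m ∈ M' := by
        refine ⟨germ ξ G tv y, ?_⟩
        refine (stalk_map_germ ξ i tv y).trans ?_
        rw [hy]
        change germ ξ F tv (F.obj.map k.op (F.obj.map g₂.op (F.obj.map g₁.op (aW m)))) =
          germ ξ F tw (aW m)
        rw [← htv, ← germ_map ξ F r tv]
        congr 1
        simp only [r, op_comp, Functor.map_comp, ConcreteCategory.comp_apply]
      exact ⟨⟨m, hmem⟩, stalk_mono η i ((key Ω' η s ⟨m, hmem⟩).trans hm)⟩
  haveI : Etale W₂.hom := W₂.prop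
  let O : X.Opens := ⟨Set.range W₂.hom.base, W₂.hom.isOpenMap.isOpen_range⟩
  exact ⟨O, hgen _ O.2 (Set.range_nonempty_iff_nonempty.2
      ⟨t₂.left.base (default : Spec (CommRingCat.of (SeparableClosure (X.residueField t))))⟩),
    flc_pull_image W₂ O rfl b hb⟩

end GrothLib.LocConst
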