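import Groth.Agent.Lib.LocConst.Over
import Groth.Agent.Lib.ExtZero.Open
import Groth.Prelude.Def_EtRestW
import Groth.Prelude.Def_EtCore
import Groth.Prelude.Def_FixPt

/-!
# Locally constant sheaves and inverse images

A sheaf is constant on the slice over an etale `U` iff its inverse image to `U` is constant; hence
inverse images preserve local constancy.
-/

universe u

open CategoryTheory CategoryTheory.Limits AlgebraicGeometry Opposite
open GrothLib.EtSite

set_option backward.isDefEq.respectTransparency.types false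

noncomputable section

namespace GrothLib.LocConst

variable {X Y : Scheme.{u}}

/-- Constancy over an etale `U` in terms of the inverse image to `U`. -/
theorem restr_iso_const_iff (F : EtCoh.Ab X) (U : X.Etale) (M : AddCommGrpCat.{u + 1}) :
    Nonempty (EtCoh.restr F U ≅ (constantSheaf (X.smallEtaleTopology.over U) AddCommGrpCat.{u + 1}).obj M) ↔
      Nonempty ((EtCoh.pull U.hom).obj F ≅
        (constantSheaf U.left.smallEtaleTopology AddCommGrpCat.{u + 1}).obj M) := by
  haveI : Etale U.hom := U.prop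
  haveI : EtShriek.JCont U.hom := jCont_hom U
  refine (over_iso_const_iff U AddCommGrpCat.{u + 1} F M).trans ⟨?_, ?_⟩
  · rintro ⟨a⟩
    exact ⟨((ExtZero.restrIsoPull U.hom).app F).symm ≪≫ a⟩
  · rintro ⟨a⟩
    exact ⟨(ExtZero.restrIsoPull U.hom).app F ≪≫ a⟩

/-- Constant after pulling back along a morphism factoring through a constant piece. -/
theorem pull_iso_const_of_fac {T S : Scheme.{u}} (a : T ⟶ S) (q : S ⟶ Y) (b : T ⟶ Y) (w : a ≫ q = b)
    (G : EtCoh.Ab Y) (M : AddCommGrpCat.{u + 1})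
    (h : Nonempty ((EtCoh.pull q).obj G ≅ (constantSheaf S.smallEtaleTopology AddCommGrpCat.{u + 1}).obj M)) :
    Nonempty ((EtCoh.pull b).obj G ≅ (constantSheaf T.smallEtaleTopology AddCommGrpCat.{u + 1}).obj M) := by
  obtain ⟨e⟩ := h
  exact ⟨((EtCore.pullCongr w).symm ≪≫ EtCore.pullComp a q).app G ≪≫ (EtCoh.pull a).mapIso e ≪≫
    (EtCore.pullConstIso a).app M⟩

/-- Inverse images of sheaves constant over `U` are constant over `U ×_Y X`. -/
theorem restr_pull_iso_const (f : X ⟶ Y) (G : EtCoh.Ab Y) (U : Y.Etale) (M : AddCommGrpCat.{u + 1})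
    (h : Nonempty (EtCoh.restr G U ≅
      (constantSheaf (Y.smallEtaleTopology.over U) AddCommGrpCat.{u + 1}).obj M)) :
    Nonempty (EtCoh.restr ((EtCoh.pull f).obj G) ((EtCoh.bc f).obj U) ≅
      (constantSheaf (X.smallEtaleTopology.over ((EtCoh.bc f).obj U)) AddCommGrpCat.{u + 1}).obj M) := by
  rw [restr_iso_const_iff] at h ⊢
  obtain ⟨e⟩ := pull_iso_const_of_fac (pullback.fst U.hom f) U.hom
    (((EtCoh.bc f).obj U).hom ≫ f) pullback.condition G M h
  exact ⟨((EtCore.pullComp ((EtCoh.bc f).obj U).hom f).app G).symm ≪≫ e⟩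

theorem covers_bc (f : X ⟶ Y) {ι : Type u} (U : ι → Y.Etale) (h : EtCoh.Covers U) :
    EtCoh.Covers fun i => (EtCoh.bc f).obj (U i) := by
  intro x
  obtain ⟨i, y, hy⟩ := h (f.base x)
  obtain ⟨z, -, hz⟩ := Scheme.Pullback.exists_preimage_pullback (f := (U i).hom) (g := f) y x hy
  exact ⟨i, z, hz⟩

theorem isLocallyConstant_pull (f : X ⟶ Y) (G : EtCoh.Ab Y) (hG : EtRest.IsLocallyConstant G) :
    EtRest.IsLocallyConstant ((EtCoh.pull f).obj G) := by
  obtain ⟨ι, U, hU, h⟩ := hG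
  refine ⟨ι, _, covers_bc f U hU, fun i => ?_⟩
  obtain ⟨M, _, hM⟩ := h i
  exact ⟨M, inferInstance, restr_pull_iso_const f G (U i) _ hM⟩

theorem isFiniteLocallyConstant_pull (f : X ⟶ Y) (G : EtCoh.Ab Y) (hG : EtCoh.IsFiniteLocallyConstant G) :
    EtCoh.IsFiniteLocallyConstant ((EtCoh.pull f).obj G) := by
  obtain ⟨ι, U, hU, h⟩ := hG
  refine ⟨ι, _, covers_bc f U hU, fun i => ?_⟩
  obtain ⟨M, _, hfin, hM⟩ := h i
  exact ⟨M, inferInstance, hfin, restr_pull_iso_const f G (U i) _ hM⟩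

section modules

variable (Λ : Type (u + 1)) [CommRing Λ]

/-- Constancy over an etale `U` of a sheaf of modules in terms of the inverse image to `U`. -/
theorem restr_iso_const_iff_mod (F : EtModW.Mod Λ X) (U : X.Etale) (M : ModuleCat.{u + 1} Λ) :
    Nonempty (EtModW.restr Λ F U ≅ (constantSheaf (X.smallEtaleTopology.over U) (ModuleCat.{u + 1} Λ)).obj M) ↔
      Nonempty ((EtModW.pull Λ U.hom).obj F ≅
        (constantSheaf U.left.smallEtaleTopology (ModuleCat.{u + 1} Λ)).obj M) := by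
  haveI : Etale U.hom := U.prop
  haveI : EtShriek.JCont U.hom := jCont_hom U
  haveI : (EtCoh.bc U.hom).IsContinuous X.smallEtaleTopology U.left.smallEtaleTopology :=
    EtCoh.bcCont U.hom
  have e := Adjunction.leftAdjointUniq ((ExtZero.compBCAdj U.hom).sheafPushforwardContinuous
    U.left.smallEtaleTopology X.smallEtaleTopology (E := ModuleCat.{u + 1} Λ)) (FixPt.pullPushAdj (Λ := Λ) U.hom)
  refine (over_iso_const_iff U (ModuleCat.{u + 1} Λ) F M).trans ⟨?_, ?_⟩
  · rintro ⟨a⟩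
    exact ⟨(e.app F).symm ≪≫ a⟩
  · rintro ⟨a⟩
    exact ⟨e.app F ≪≫ a⟩

theorem isFTLocConst_pull (f : X ⟶ Y) (G : EtModW.Mod Λ Y) (hG : EtModW.IsFTLocConst Λ G) :
    EtModW.IsFTLocConst Λ ((EtModW.pull Λ f).obj G) := by
  obtain ⟨ι, U, hU, h⟩ := hG
  refine ⟨ι, _, covers_bc f U hU, fun i => ?_⟩
  obtain ⟨M, _, _, hfin, hM⟩ := h i
  refine ⟨M, inferInstance, inferInstance, hfin, ?_⟩
  rw [restr_iso_const_iff_mod] at hM ⊢
  obtain ⟨e⟩ := hM
  let pr : ((EtCoh.bc f).obj (U i)).left ⟶ (U i).left := pullback.fst (U i).hom f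
  exact ⟨((FixPt.pullComp ((EtCoh.bc f).obj (U i)).hom f).symm ≪≫
    FixPt.pullCongr (pullback.condition.symm : ((EtCoh.bc f).obj (U i)).hom ≫ f = pr ≫ (U i).hom) ≪≫
    FixPt.pullComp pr (U i).hom).app G ≪≫ (EtModW.pull Λ pr).mapIso e ≪≫
    (FixPt.pullConstIso pr).app (ModuleCat.of Λ M)⟩

end modules

end GrothLib.LocConst
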