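import Groth.Agent.Lib.LocConst.Serre

/-!
# Finite locally constant sheaves on connected schemes

On a connected scheme a finite locally constant sheaf has a single value group.
-/

universe u

open CategoryTheory CategoryTheory.Limits AlgebraicGeometry Opposite
open GrothLib.EtSite

set_option backward.isDefEq.respectTransparency.types false

noncomputable section

namespace GrothLib.LocConst

variable {X : Scheme.{u}}

/-- Charts over one point have isomorphic values. -/
theorem nonempty_equiv_of_charts {F : EtCoh.Ab X} {U V : X.Etale} {M N : Type}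
    [AddCommGroup M] [AddCommGroup N] {a : M →+ EtCoh.sect F U} {b : N →+ EtCoh.sect F V}
    (ha : IsChart F U a) (hb : IsChart F V b) (u : U.left) (v : V.left)
    (h : V.hom.base v = U.hom.base u) : Nonempty (M ≃+ N) := by
  obtain ⟨t, -⟩ := exists_fib (gpt (U.hom.base u)) u (gpt_default _).symm
  obtain ⟨s, -⟩ := exists_fib (gpt (U.hom.base u)) v (h.trans (gpt_default _).symm)
  exact ⟨(AddEquiv.ofBijective ((germ _ F t).hom.comp a) (ha _ _ t)).trans
    (AddEquiv.ofBijective ((germ _ F s).hom.comp b) (hb _ _ s)).symm⟩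

/-- On a connected scheme a single value group suffices. -/
theorem exists_chart_single [ConnectedSpace X] (F : EtCoh.Ab X)
    (h : EtCoh.IsFiniteLocallyConstant F) :
    ∃ (M : Type) (_ : AddCommGroup M) (_ : Finite M), ∀ x : X, ∃ (U : X.Etale) (u : U.left),
      U.hom.base u = x ∧ ∃ a : M →+ EtCoh.sect F U, IsChart F U a := by
  obtain ⟨x₀⟩ : Nonempty X := inferInstance
  choose U u hu M inst hfin a ha using (flc_iff_charts F).1 h
  refine ⟨M x₀, inst x₀, hfin x₀, ?_⟩
  let O : X → Set X := fun x => Set.range (U x).hom.base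
  have hO : ∀ x, IsOpen (O x) := fun x => by
    haveI : Etale (U x).hom := (U x).prop
    exact (U x).hom.isOpenMap.isOpen_range
  let A : Set X := ⋃ x ∈ {x | Nonempty (M x ≃+ M x₀)}, O x
  have hAeq : A = {x | Nonempty (M x ≃+ M x₀)} := by
    ext x
    simp only [A, Set.mem_iUnion₂, Set.mem_setOf_eq]
    constructor
    · rintro ⟨y, ⟨e⟩, v, hv⟩
      obtain ⟨e'⟩ := nonempty_equiv_of_charts (ha x) (ha y) (u x) v (hv.trans (hu x).symm)
      exact ⟨e'.trans e⟩
    · exact fun e => ⟨x, e, u x, hu x⟩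
  have hopen : IsOpen A := isOpen_biUnion fun x _ => hO x
  have hclosed : IsClosed A := by
    rw [← isOpen_compl_iff, hAeq]
    refine isOpen_iff_forall_mem_open.2 fun x hx => ⟨O x, fun y ⟨v, hv⟩ ⟨e⟩ => hx ?_, hO x, u x, hu x⟩
    obtain ⟨e'⟩ := nonempty_equiv_of_charts (ha y) (ha x) (u y) v (hv.trans (hu y).symm)
    exact ⟨e'.symm.trans e⟩
  have huniv := IsClopen.eq_univ ⟨hclosed, hopen⟩ ⟨x₀, hAeq ▸ ⟨AddEquiv.refl _⟩⟩
  intro x
  obtain ⟨e⟩ : x ∈ {x | Nonempty (M x ≃+ M x₀)} := hAeq ▸ huniv ▸ Set.mem_univ x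
  exact ⟨U x, u x, hu x, _, (ha x).comp_equiv e.symm⟩

end GrothLib.LocConst
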