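import Groth.Agent.Lib.LocConst.ConstGerm
import Mathlib.AlgebraicGeometry.Morphisms.Etale

/-!
# Charts of locally constant sheaves

A chart of `F` on an etale `U` with value `M` is a hom `M → F(U)` inducing bijections with all
geometric stalks at points of `U`.  `F` is constant on `U` with value `M` iff there is a chart, and
finite locally constant iff every point has a chart with finite value.
-/

universe u

open CategoryTheory CategoryTheory.Limits AlgebraicGeometry Opposite
open GrothLib.EtSite

set_option backward.isDefEq.respectTransparency.types false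

noncomputable section

namespace GrothLib.LocConst

variable {X : Scheme.{u}}

/-- `a` induces bijections with the stalks of `F` at all geometric points of `U`. -/
def IsChart (F : EtCoh.Ab X) (U : X.Etale) {A : Type*} [AddCommGroup A]
    (a : A →+ EtCoh.sect F U) : Prop :=
  ∀ (Ω : Type u) [Field Ω] [IsSepClosed Ω] (ξ : Spec (CommRingCat.of Ω) ⟶ X)
    (t : (Scheme.pointSmallEtale ξ).fiber.obj U), Function.Bijective fun m => germ ξ F t (a m)

/-- Charts restrict. -/
theorem IsChart.map {F : EtCoh.Ab X} {U V : X.Etale} {A : Type*} [AddCommGroup A]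
    {a : A →+ EtCoh.sect F U} (h : IsChart F U a) (g : V ⟶ U) :
    IsChart F V ((F.obj.map g.op).hom.comp a) := fun Ω _ _ ξ t => by
  have e : (fun m => germ ξ F t ((F.obj.map g.op).hom.comp a m)) =
      fun m => germ ξ F ((Scheme.pointSmallEtale ξ).fiber.map g t) (a m) :=
    funext fun m => germ_map ξ F g t (a m)
  rw [e]
  exact h Ω ξ _

/-- Change of value group. -/
theorem IsChart.comp_equiv {F : EtCoh.Ab X} {U : X.Etale} {A B : Type*} [AddCommGroup A]
    [AddCommGroup B] {a : A →+ EtCoh.sect F U} (h : IsChart F U a) (e : B ≃+ A) :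
    IsChart F U (a.comp e.toAddMonoidHom) := fun Ω _ _ ξ t => (h Ω ξ t).comp e.bijective

section restriction

variable {S : Scheme.{u}} (j : S ⟶ X) [Etale j] [EtShriek.JCont j]
  {Ω : Type u} [Field Ω] [IsSepClosed Ω]

/-- A point of `V` over `η` as a point of `V → S → X`. -/
def liftPt (η : Spec (CommRingCat.of Ω) ⟶ S) {V : S.Etale}
    (s : (Scheme.pointSmallEtale η).fiber.obj V) :
    (Scheme.pointSmallEtale (η ≫ j)).fiber.obj ((EtShriek.compEtale j).obj V) :=
  ExtZero.liftFib j (η ≫ j) ⟨η, rfl⟩ s

/-- The map from the stalk of a restriction. -/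
def restrGerm (η : Spec (CommRingCat.of Ω) ⟶ S) (F : EtCoh.Ab X) :
    (EtCoh.stalk η).obj ((EtShriek.restrAlong j).obj F) ⟶ (EtCoh.stalk (η ≫ j)).obj F :=
  (Scheme.pointSmallEtale η).presheafFiberDesc (fun _ s => germ (η ≫ j) F (liftPt j η s))
    (fun {V W} g s => by
      ext z
      exact germ_map (η ≫ j) F ((EtShriek.compEtale j).map g) (liftPt j η s) z)

theorem germ_restrGerm (η : Spec (CommRingCat.of Ω) ⟶ S) (F : EtCoh.Ab X) {V : S.Etale}
    (s : (Scheme.pointSmallEtale η).fiber.obj V)
    (z : EtCoh.sect ((EtShriek.restrAlong j).obj F) V) :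
    restrGerm j η F (germ η ((EtShriek.restrAlong j).obj F) s z) =
      germ (η ≫ j) F (liftPt j η s) z := by
  have h := (Scheme.pointSmallEtale η).toPresheafFiber_presheafFiberDesc
    (P := ((EtShriek.restrAlong j).obj F).obj)
    (fun _ s => germ (η ≫ j) F (liftPt j η s))
    (fun {V W} g s => by
      ext z
      exact germ_map (η ≫ j) F ((EtShriek.compEtale j).map g) (liftPt j η s) z) V s
  exact congrArg (fun k => k z) h

theorem bijective_restrGerm (η : Spec (CommRingCat.of Ω) ⟶ S) (F : EtCoh.Ab X) :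
    Function.Bijective (restrGerm j η F) := by
  constructor
  · rw [injective_iff_map_eq_zero]
    intro p hp
    obtain ⟨V, s, z, rfl⟩ := exists_germ η _ p
    rw [germ_restrGerm, ← map_zero (germ (η ≫ j) F (liftPt j η s)).hom] at hp
    obtain ⟨W, g, w, hw, hz⟩ := (germ_eq_iff (η ≫ j) F _ _ _).1 hp
    have hW : (g.left ≫ V.hom) ≫ j = W.hom :=
      (Category.assoc _ _ _).trans (MorphismProperty.Over.w g)
    haveI : Etale W.hom := W.prop
    haveI : Etale ((g.left ≫ V.hom) ≫ j) := hW ▸ inferInstance
    haveI : Etale (g.left ≫ V.hom) := Etale.of_comp _ j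
    have hwl : w.left ≫ g.left = s.left := congrArg (fun k => k.left) hw
    let W' : S.Etale := Scheme.Etale.mk (g.left ≫ V.hom)
    let k : W' ⟶ V := MorphismProperty.Over.homMk g.left rfl
    let e : (EtShriek.compEtale j).obj W' ⟶ W := MorphismProperty.Over.homMk (𝟙 _)
      ((Category.id_comp _).trans hW.symm)
    let w' : (Scheme.pointSmallEtale η).fiber.obj W' := fib η (U := W') w.left
      ((Category.assoc _ _ _).symm.trans ((congrArg (· ≫ V.hom) hwl).trans (Over.w s)))
    have hk : (EtShriek.compEtale j).map k = e ≫ g :=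
      MorphismProperty.Over.Hom.ext (Category.id_comp g.left).symm
    have hs : (Scheme.pointSmallEtale η).fiber.map k w' = s := Over.OverMorphism.ext hwl
    rw [← hs, ← germ_map η ((EtShriek.restrAlong j).obj F) k w' z]
    have hz' : F.obj.map ((EtShriek.compEtale j).map k).op z = 0 := by
      rw [hk, op_comp, Functor.map_comp, ConcreteCategory.comp_apply, hz, map_zero, map_zero]
    refine (congrArg _ hz').trans (map_zero _)
  · intro p
    obtain ⟨W, t, z, rfl⟩ := exists_germ (η ≫ j) F p
    let W' : S.Etale := (EtCoh.bc j).obj W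
    let g : (EtShriek.compEtale j).obj W' ⟶ W := MorphismProperty.Over.homMk
      (pullback.fst W.hom j : W'.left ⟶ W.left) pullback.condition
    let s : (Scheme.pointSmallEtale η).fiber.obj W' := fib η (U := W')
      (pullback.lift t.left η (Over.w t)) (pullback.lift_snd _ _ _)
    refine ⟨germ η ((EtShriek.restrAlong j).obj F) s (F.obj.map g.op z), ?_⟩
    rw [germ_restrGerm, germ_map]
    have e : (Scheme.pointSmallEtale (η ≫ j)).fiber.map g (liftPt j η s) = t :=
      Over.OverMorphism.ext (pullback.lift_fst t.left η (Over.w t))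
    rw [e]

end restriction

/-- Constancy on `U` is the existence of a chart on `U`. -/
theorem restr_iso_const_iff_chart (F : EtCoh.Ab X) (U : X.Etale) (M : AddCommGrpCat.{u + 1}) :
    Nonempty (EtCoh.restr F U ≅
        (constantSheaf (X.smallEtaleTopology.over U) AddCommGrpCat.{u + 1}).obj M) ↔
      ∃ a : (M : Type (u + 1)) →+ EtCoh.sect F U, IsChart F U a := by
  haveI : Etale U.hom := U.prop
  haveI : EtShriek.JCont U.hom := jCont_hom U
  let G := (EtShriek.restrAlong U.hom).obj F
  let T := (EtShriek.compEtale U.hom).obj (EtCoh.top U.left)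
  let e : T ≅ U := MorphismProperty.Over.isoMk (Iso.refl _)
    ((Category.id_comp _).trans (Category.id_comp _).symm)
  refine (over_iso_const_iff U AddCommGrpCat.{u + 1} F M).trans ((iso_const_iff G M).trans ?_)
  constructor
  · rintro ⟨a, ha⟩
    refine ⟨((F.obj.map e.inv.op).hom.comp a.hom : (M : Type (u + 1)) →+ EtCoh.sect F U),
      fun Ω _ _ ξ t => ?_⟩
    obtain ⟨l, hl⟩ : ∃ l : Spec (CommRingCat.of Ω) ⟶ U.left, l = t.left := ⟨_, rfl⟩
    have hξ : l ≫ U.hom = ξ := hl ▸ Over.w t
    subst hξ
    have h : Function.Bijective fun m =>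
        restrGerm U.hom l F (germ l G (topFib l) (a m)) :=
      (bijective_restrGerm U.hom l F).comp (ha Ω l)
    have hf : ∀ m, germ (l ≫ U.hom) F t (F.obj.map e.inv.op (a m)) =
        restrGerm U.hom l F (germ l G (topFib l) (a m)) := fun m => by
      refine (germ_map _ F e.inv t (a m)).trans (Eq.trans ?_ (germ_restrGerm U.hom l F _ _).symm)
      have e2 : (Scheme.pointSmallEtale (l ≫ U.hom)).fiber.map e.inv t = liftPt U.hom l (topFib l) :=
        Over.OverMorphism.ext ((Category.comp_id _).trans hl.symm)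
      rw [e2]
    exact (funext hf : (fun m => germ (l ≫ U.hom) F t (F.obj.map e.inv.op (a m))) = _) ▸ h
  · rintro ⟨a, ha⟩
    refine ⟨AddCommGrpCat.ofHom ((F.obj.map e.hom.op).hom.comp a), fun Ω _ _ η => ?_⟩
    refine (Function.Bijective.of_comp_iff' (bijective_restrGerm U.hom η F) _).1 ?_
    let t : (Scheme.pointSmallEtale (η ≫ U.hom)).fiber.obj U := fib (η ≫ U.hom) (U := U) η rfl
    have hf : ∀ m, restrGerm U.hom η F (germ η G (topFib η) (F.obj.map e.hom.op (a m))) =
        germ (η ≫ U.hom) F t (a m) := fun m => by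
      refine (germ_restrGerm U.hom η F _ _).trans ((germ_map _ F e.hom _ (a m)).trans ?_)
      congr 1
    have h := ha Ω (η ≫ U.hom) t
    rw [← (funext hf : (fun m => restrGerm U.hom η F
      (germ η G (topFib η) (F.obj.map e.hom.op (a m)))) = _)] at h
    exact h

/-- Finite local constancy through charts. -/
theorem flc_iff_charts (F : EtCoh.Ab X) :
    EtCoh.IsFiniteLocallyConstant F ↔ ∀ x : X, ∃ (U : X.Etale) (u : U.left),
      U.hom.base u = x ∧ ∃ (M : Type) (_ : AddCommGroup M) (_ : Finite M)
        (a : M →+ EtCoh.sect F U), IsChart F U a := by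
  constructor
  · rintro ⟨ι, U, hU, h⟩ x
    obtain ⟨i, y, hy⟩ := hU x
    obtain ⟨M, _, hfin, hM⟩ := h i
    obtain ⟨a, ha⟩ := (restr_iso_const_iff_chart F (U i) _).1 hM
    exact ⟨U i, y, hy, M, inferInstance, hfin, _, ha.comp_equiv AddEquiv.ulift.symm⟩
  · intro h
    choose U u hu M inst hfin a ha using h
    exact ⟨X, U, fun x => ⟨x, u x, hu x⟩, fun x => ⟨M x, inst x, hfin x,
      (restr_iso_const_iff_chart F (U x) _).2 ⟨_, (ha x).comp_equiv AddEquiv.ulift⟩⟩⟩

end GrothLib.LocConst
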