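import Groth.Prelude.Def_EtShriek2
import Groth.Agent.Lib.EtSite.Points
import Mathlib.CategoryTheory.Sites.ConstantSheaf
import Mathlib.CategoryTheory.Sites.DenseSubsite.Basic
import Mathlib.CategoryTheory.Sites.Over

/-!
# The slice of the small etale site at an etale scheme

`X_et / U` is equivalent, as a site, to the small etale site of `U`; restriction to the slice is
restriction along `U → X` and constant sheaves correspond.
-/

universe w u

open CategoryTheory CategoryTheory.Limits AlgebraicGeometry Opposite
open GrothLib.EtSite

set_option backward.isDefEq.respectTransparency.types false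

noncomputable section

namespace GrothLib.LocConst

variable {X : Scheme.{u}} (U : X.Etale) [Etale U.hom]

/-- From the etale site of `U` to the slice over `U`. -/
def toOver : U.left.Etale ⥤ Over U where
  obj W := Over.mk (MorphismProperty.Over.homMk W.hom rfl :
    (EtShriek.compEtale U.hom).obj W ⟶ U)
  map g := Over.homMk ((EtShriek.compEtale U.hom).map g)
    (MorphismProperty.Over.Hom.ext (MorphismProperty.Over.w g))
  map_id W := Over.OverMorphism.ext ((EtShriek.compEtale U.hom).map_id W)
  map_comp g h := Over.OverMorphism.ext ((EtShriek.compEtale U.hom).map_comp g h)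

set_option backward.isDefEq.respectTransparency false in
instance : (toOver U).Full where
  map_surjective {V W} g := ⟨MorphismProperty.Over.homMk g.left.left
    (congrArg (fun k : ((toOver U).obj V).left ⟶ U => k.left) (Over.w g)),
    Over.OverMorphism.ext (MorphismProperty.Over.Hom.ext rfl)⟩

instance : (toOver U).Faithful where
  map_injective {V W} g h e := (EtShriek.compEtale U.hom).map_injective (congrArg (fun k => k.left) e)

set_option backward.isDefEq.respectTransparency false in
instance : (toOver U).EssSurj where
  mem_essImage W := by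
    haveI : Etale (W.left.hom) := W.left.prop
    haveI : Etale (W.hom.left : W.left.left ⟶ U.left) := inferInstanceAs (Etale W.hom.left)
    exact ⟨Scheme.Etale.mk W.hom.left,
      ⟨Over.isoMk (MorphismProperty.Over.isoMk (Iso.refl _)
          ((Category.id_comp _).trans (MorphismProperty.Over.w W.hom).symm))
        (MorphismProperty.Over.Hom.ext (Category.id_comp _))⟩⟩

instance isEquivalence_toOver : (toOver U).IsEquivalence where

lemma mem_over {W : Over U} (S : Sieve W) :
    S ∈ (X.smallEtaleTopology.over U) W ↔
      ∀ x : W.left.left, ∃ (V : Over U) (g : V ⟶ W) (v : V.left.left), S g ∧ g.left.left.base v = x := by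
  rw [GrothendieckTopology.mem_over_iff, mem_topology_iff]
  refine forall_congr' fun x => ?_
  constructor
  · rintro ⟨V, g, v, hg, hv⟩
    exact ⟨Over.mk (g ≫ W.hom), Over.homMk g, v, (Sieve.overEquiv_iff S g).1 hg, hv⟩
  · rintro ⟨V, g, v, hg, hv⟩
    refine ⟨V.left, g.left, v, (Sieve.overEquiv_iff S g.left).2 ?_, hv⟩
    let e : Over.mk (g.left ≫ W.hom) ⟶ V := Over.homMk (𝟙 _) (by simp)
    have : (Over.homMk g.left rfl : Over.mk (g.left ≫ W.hom) ⟶ W) = e ≫ g :=
      Over.OverMorphism.ext (Category.id_comp _).symm
    rw [this]
    exact S.downward_closed hg _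

instance isCocontinuous_toOver :
    (toOver U).IsCocontinuous U.left.smallEtaleTopology (X.smallEtaleTopology.over U) where
  cover_lift {W S} hS := by
    rw [mem_topology_iff]
    intro x
    obtain ⟨V, g, v, hg, hv⟩ := (mem_over U S).1 hS x
    let e := (toOver U).objObjPreimageIso V
    refine ⟨(toOver U).objPreimage V, (toOver U).preimage (e.hom ≫ g), e.inv.left.left.base v, ?_, ?_⟩
    · change S ((toOver U).map ((toOver U).preimage (e.hom ≫ g)))
      rw [Functor.map_preimage]
      exact S.downward_closed hg _
    · refine Eq.trans ?_ hv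
      have h2 : e.inv ≫ (toOver U).map ((toOver U).preimage (e.hom ≫ g)) = g := by
        rw [Functor.map_preimage, e.inv_hom_id_assoc]
      exact congrArg (fun k : V ⟶ (toOver U).obj W => k.left.left.base v) h2

lemma coverPreserving_toOver :
    CoverPreserving U.left.smallEtaleTopology (X.smallEtaleTopology.over U) (toOver U) where
  cover_preserve {W S} hS := by
    rw [mem_over]
    intro x
    obtain ⟨V, g, v, hg, hv⟩ := (mem_topology_iff S).1 hS x
    exact ⟨_, (toOver U).map g, v, Sieve.image_mem_functorPushforward _ _ hg, hv⟩

instance isContinuous_toOver :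
    (toOver U).IsContinuous U.left.smallEtaleTopology (X.smallEtaleTopology.over U) :=
  Functor.isContinuous_of_coverPreserving (compatiblePreservingOfFlat _ _) (coverPreserving_toOver U)

instance jCont_hom :
    (EtShriek.compEtale U.hom).IsContinuous U.left.smallEtaleTopology X.smallEtaleTopology :=
  have : (toOver U ⋙ Over.forget U).IsContinuous U.left.smallEtaleTopology X.smallEtaleTopology :=
    Functor.isContinuous_comp (toOver U) (Over.forget U) _ (X.smallEtaleTopology.over U) _
  this

section coefficients

variable (A : Type (u + 2)) [Category.{u + 1} A]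
  [HasWeakSheafify U.left.smallEtaleTopology A] [HasWeakSheafify (X.smallEtaleTopology.over U) A]
  [∀ F : U.left.Etaleᵒᵖ ⥤ A, (toOver U).op.HasPointwiseRightKanExtension F]

/-- Sheaves on the slice as sheaves on the etale site of `U`. -/
abbrev fromSlice : Sheaf (X.smallEtaleTopology.over U) A ⥤ Sheaf U.left.smallEtaleTopology A :=
  (toOver U).sheafPushforwardContinuous A U.left.smallEtaleTopology (X.smallEtaleTopology.over U)

/-- The constant sheaf on the slice corresponds to the constant sheaf. -/
def fromSliceConstIso :
    constantSheaf (X.smallEtaleTopology.over U) A ⋙ fromSlice U A ≅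
      constantSheaf U.left.smallEtaleTopology A :=
  Functor.associator _ _ _ ≪≫
    Functor.isoWhiskerLeft (Functor.const (Over U)ᵒᵖ)
      ((toOver U).pushforwardContinuousSheafificationCompatibility A U.left.smallEtaleTopology
        (X.smallEtaleTopology.over U)).symm ≪≫
    (Functor.associator _ _ _).symm ≪≫
    Functor.isoWhiskerRight (Iso.refl _ : Functor.const (Over U)ᵒᵖ ⋙
      (Functor.whiskeringLeft _ _ A).obj (toOver U).op ≅ Functor.const (U.left.Etale)ᵒᵖ) _

omit [HasWeakSheafify U.left.smallEtaleTopology A] [HasWeakSheafify (X.smallEtaleTopology.over U) A]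
  [∀ F : U.left.Etaleᵒᵖ ⥤ A, (toOver U).op.HasPointwiseRightKanExtension F] in
/-- Isomorphisms of sheaves on the slice can be checked on the etale site of `U`. -/
theorem nonempty_iso_of_fromSlice {F G : Sheaf (X.smallEtaleTopology.over U) A}
    (e : (fromSlice U A).obj F ≅ (fromSlice U A).obj G) : Nonempty (F ≅ G) := by
  haveI : (toOver U).op.IsEquivalence := inferInstance
  haveI : ((Functor.whiskeringLeft (U.left.Etale)ᵒᵖ (Over U)ᵒᵖ A).obj (toOver U).op).IsEquivalence :=
    inferInstance
  exact ⟨(fullyFaithfulSheafToPresheaf _ A).preimageIso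
    (((Functor.whiskeringLeft (U.left.Etale)ᵒᵖ (Over U)ᵒᵖ A).obj (toOver U).op).preimageIso
      ((sheafToPresheaf _ _).mapIso e))⟩

/-- A sheaf is constant over `U` iff its restriction along `U → X` is constant. -/
theorem over_iso_const_iff (F : Sheaf X.smallEtaleTopology A) (M : A) :
    Nonempty (F.over U ≅ (constantSheaf (X.smallEtaleTopology.over U) A).obj M) ↔
      Nonempty (((EtShriek.compEtale U.hom).sheafPushforwardContinuous A U.left.smallEtaleTopology
        X.smallEtaleTopology).obj F ≅ (constantSheaf U.left.smallEtaleTopology A).obj M) := by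
  have e : ((EtShriek.compEtale U.hom).sheafPushforwardContinuous A U.left.smallEtaleTopology
      X.smallEtaleTopology).obj F ≅ (fromSlice U A).obj (F.over U) :=
    (fullyFaithfulSheafToPresheaf _ A).preimageIso (Iso.refl _)
  constructor
  · rintro ⟨a⟩
    exact ⟨e ≪≫ (fromSlice U A).mapIso a ≪≫ (fromSliceConstIso U A).app M⟩
  · rintro ⟨b⟩
    exact nonempty_iso_of_fromSlice U A (e.symm ≪≫ b ≪≫ ((fromSliceConstIso U A).app M).symm)

end coefficients

end GrothLib.LocConst
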